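import Groth.Agent.Gaga.H298.FinStep
import Groth.Agent.Gaga.H530.AlgFP
import Groth.Agent.Gaga.H30.PowInj

/-!
# [FIN] of S4310
-/

set_option autoImplicit false

open CategoryTheory AlgebraicGeometry TopologicalSpace Opposite

noncomputable section

namespace Groth.Agent.Gaga.H298.Fin

open Groth.Agent.Gaga.H975.ModSec Groth.Agent.Gaga.H986.Stalk Groth.Agent.Gaga.H986.Pull
open Groth.Agent.Gaga.H976.Defs Groth.Agent.Gaga.H976.Defs2 Groth.Agent.Gaga.H976.Quot

/-- [FIN] -/
theorem alg_of_bijective_outside {X : Scheme.{0}} [X.Over An.SC] [IsReduced X] [IsProper (X ↘ An.SC)]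
    (hOka : ∀ (M N : An.AnMod X) (f : M ⟶ N), M.IsFinitePresentation → N.IsFinitePresentation →
      (Limits.kernel f).IsFinitePresentation)
    (h4309 : ∀ M N : X.Modules, Coh.IsCoh M → Coh.IsCoh N →
      Function.Bijective ((An.analytify X).map : (M ⟶ N) → ((An.analytify X).obj M ⟶ (An.analytify X).obj N)))
    (J : X.IdealSheafData)
    (ih : ∀ N : An.AnMod X, N.IsFinitePresentation → SuppIn (J.support : Set X) N → Alg N)
    {N P : An.AnMod X} (hN : N.IsFinitePresentation) (hP : Alg P) (θ : N ⟶ P)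
    (hθ : ∀ x : An.Pts X, x.pt ∉ J.support → Function.Bijective (stMap (R := An.hol X) θ x)) :
    Alg N := by
  have hX : IsLocallyNoetherian X := LocallyOfFiniteType.isLocallyNoetherian (X ↘ An.SC)
  exact H298.FinStep.alg_of_bijective_outside_of
    (fun P hP => H530.AlgFP.isFinitePresentation_of_alg hP) h4309 J ih hN hP θ hθ
    (H30.PowInj.exists_pow_inj hOka hN (H530.AlgFP.isFinitePresentation_of_alg hP) θ J fun x hx => (hθ x hx).1)

end Groth.Agent.Gaga.H298.Fin
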