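import Groth.Agent.Gaga.H976.IdealAt
import Groth.Agent.Gaga.H980.PowFam
import Groth.Agent.Gaga.H146.AlgPullback

/-!
# The final step in the proof of S4310

`alg_of_bijective_outside_of`: `θ : N ⟶ P` bijective on stalks outside `V(J)`, `P` algebraic, all f.p. sheaves supported
in `V(J)` algebraic; then `N` is algebraic. `N` is the fibre product of `N/J^nN` and `P` over `P/θ(J^nN)`.
-/

set_option autoImplicit false

open CategoryTheory AlgebraicGeometry TopologicalSpace Opposite

noncomputable section

namespace Groth.Agent.Gaga.H298.FinStep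

open Groth.Agent.Gaga.H975.ModSec Groth.Agent.Gaga.H986.Stalk Groth.Agent.Gaga.H986.Pull
open Groth.Agent.Gaga.H976.Defs Groth.Agent.Gaga.H976.Defs2 Groth.Agent.Gaga.H976.Quot
open Groth.Agent.Gaga.H986.Nak Groth.Agent.Gaga.H976.FPS

section Gen

variable {T : TopCat.{0}} {R : TopCat.Sheaf CommRingCat.{0} T}

/-- The projections from a fibre product are jointly injective on stalks. -/
theorem pullback_stalk_joint {A B C : Mod R} (a : A ⟶ C) (b : B ⟶ C) (x : T)
    (w : St (Limits.pullback a b) x) (h1 : stMap (Limits.pullback.fst a b) x w = 0)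
    (h2 : stMap (Limits.pullback.snd a b) x w = 0) : w = 0 := by
  have h3 : w ∈ LinearMap.range (stMap (Limits.kernel.ι (Limits.pullback.fst a b)) x) := by
    rw [range_stMap_kernel]
    exact h1
  obtain ⟨w', rfl⟩ := h3
  have hm : Mono (Limits.kernel.ι (Limits.pullback.fst a b) ≫ Limits.pullback.snd a b) := by
    refine ⟨fun {Z} f g hfg => ?_⟩
    rw [← cancel_mono (Limits.kernel.ι (Limits.pullback.fst a b))]
    apply Limits.pullback.hom_ext
    · simp
    · simpa using hfg
  rw [← stMap_comp_apply] at h2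
  have h4 : w' = 0 := (mono_iff _).1 hm x (by rw [h2, map_zero])
  rw [h4, map_zero]

/-- A criterion for a square to be a fibre product, on stalks. -/
theorem isIso_lift {N N' P C : Mod R} (π : N ⟶ N') (θ : N ⟶ P) (ν : N' ⟶ C) (ρ : P ⟶ C)
    (h : π ≫ ν = θ ≫ ρ) (hπ : ∀ x, Function.Surjective (stMap π x))
    (hinj : ∀ x (t : St N x), stMap π x t = 0 → stMap θ x t = 0 → t = 0)
    (hker : ∀ x (b : St P x), stMap ρ x b = 0 → ∃ j : St N x, stMap π x j = 0 ∧ stMap θ x j = b) :
    IsIso (Limits.pullback.lift π θ h) := by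
  have hfst : ∀ x (t : St N x), stMap (Limits.pullback.fst ν ρ) x (stMap (Limits.pullback.lift π θ h) x t) =
      stMap π x t := fun x t => by
    rw [← stMap_comp_apply, Limits.pullback.lift_fst]
  have hsnd : ∀ x (t : St N x), stMap (Limits.pullback.snd ν ρ) x (stMap (Limits.pullback.lift π θ h) x t) =
      stMap θ x t := fun x t => by
    rw [← stMap_comp_apply, Limits.pullback.lift_snd]
  rw [isIso_iff_stMap]
  intro x
  constructor
  · rw [injective_iff_map_eq_zero]
    intro t ht
    refine hinj x t ?_ ?_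
    · rw [← hfst, ht, map_zero]
    · rw [← hsnd, ht, map_zero]
  · intro w
    obtain ⟨n₀, hn₀⟩ := hπ x (stMap (Limits.pullback.fst ν ρ) x w)
    have hw : stMap ν x (stMap (Limits.pullback.fst ν ρ) x w) = stMap ρ x (stMap (Limits.pullback.snd ν ρ) x w) := by
      rw [← stMap_comp_apply, ← stMap_comp_apply, Limits.pullback.condition]
    have hn : stMap ν x (stMap π x n₀) = stMap ρ x (stMap θ x n₀) := by
      rw [← stMap_comp_apply, ← stMap_comp_apply, h]
    obtain ⟨j, hj1, hj2⟩ := hker x (stMap (Limits.pullback.snd ν ρ) x w - stMap θ x n₀) (by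
      rw [map_sub, ← hn, hn₀, hw, sub_self])
    refine ⟨n₀ + j, ?_⟩
    rw [← sub_eq_zero]
    apply pullback_stalk_joint
    · rw [map_sub, hfst, map_add, hj1, hn₀, add_zero, sub_self]
    · rw [map_sub, hsnd, map_add, hj2, add_sub_cancel, sub_self]

/-- The cokernel of a map from a finite type module to a finitely presented one is finitely presented. -/
theorem isFinitePresentation_cokernel {S P : Mod R} (φ : S ⟶ P) (hS : S.IsFiniteType)
    (hP : P.IsFinitePresentation) : (Limits.cokernel φ).IsFinitePresentation := by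
  rw [isFinitePresentation_iff] at hP ⊢
  rw [isFiniteType_iff] at hS
  intro x
  obtain ⟨V, hxV, n, g, hg⟩ := hS x
  refine H976.FPC.FPS.of_surjective (Limits.cokernel.π φ) (hP x) hxV (fun y _ => stMap_cokernel_surjective φ y)
    (fun i => app φ V (g i)) fun y hy => ?_
  rw [ker_stMap_cokernel, LinearMap.range_eq_map, ← hg y hy, Submodule.map_span, ← Set.range_comp]
  congr 1
  congr 1
  funext i
  exact stMap_gm φ y V hy (g i)

end Gen

variable {X : Scheme.{0}} [X.Over An.SC]

theorem powFam_eq_top (J : X.IdealSheafData) (n : ℕ) (N : An.AnMod X) (x : An.Pts X)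
    (hx : x.pt ∉ J.support) : powFam J n N x = ⊤ := by
  unfold powFam
  rw [H976.IdealAt.idealAt_eq_top J x hx, Ideal.top_pow, Submodule.top_smul]

theorem alg_of_iso {N P : An.AnMod X} (e : N ≅ P) (h : Alg N) : Alg P := by
  obtain ⟨M, hM, ⟨f⟩⟩ := h
  exact ⟨M, hM, ⟨f ≪≫ e⟩⟩

/-- [FIN], from [AR] and [CFP]. -/
theorem alg_of_bijective_outside_of [IsReduced X] [IsProper (X ↘ An.SC)]
    (hCFP : ∀ P : An.AnMod X, Alg P → P.IsFinitePresentation)
    (h4309 : ∀ M N : X.Modules, Coh.IsCoh M → Coh.IsCoh N →
      Function.Bijective ((An.analytify X).map : (M ⟶ N) → ((An.analytify X).obj M ⟶ (An.analytify X).obj N)))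
    (J : X.IdealSheafData)
    (ih : ∀ N : An.AnMod X, N.IsFinitePresentation → SuppIn (J.support : Set X) N → Alg N)
    {N P : An.AnMod X} (hN : N.IsFinitePresentation) (hP : Alg P) (θ : N ⟶ P)
    (hθ : ∀ x : An.Pts X, x.pt ∉ J.support → Function.Bijective (stMap (R := An.hol X) θ x))
    (hAR : ∃ n : ℕ, ∀ (x : An.Pts X) (t : St (R := An.hol X) N x), t ∈ powFam J n N x →
      stMap (R := An.hol X) θ x t = 0 → t = 0) :
    Alg N := by
  have hX : IsLocallyNoetherian X := LocallyOfFiniteType.isLocallyNoetherian (X ↘ An.SC)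
  obtain ⟨n, hn⟩ := hAR
  have hop : OpenFam (R := An.hol X) (N := N) (powFam J n N) := H980.PowFam.openFam_powFam J n N
  have hPfp : P.IsFinitePresentation := hCFP P hP
  have hNft : N.IsFiniteType := (isFiniteType_iff (R := An.hol X) N).2 fun x =>
    ((isFinitePresentation_iff (R := An.hol X) N).1 hN x).ft
  let S : ∀ x : An.top X, Submodule (StO (An.hol X) x) (St (R := An.hol X) N x) := powFam J n N
  let φ : subMod (R := An.hol X) (N := N) S ⟶ P := subι (R := An.hol X) (N := N) S ≫ θ
  let N' : Mod (An.hol X) := quotMod (R := An.hol X) (N := N) S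
  let π : (show Mod (An.hol X) from N) ⟶ N' := quotπ (R := An.hol X) (N := N) S
  let C : Mod (An.hol X) := Limits.cokernel φ
  let ρ : (show Mod (An.hol X) from P) ⟶ C := Limits.cokernel.π φ
  have hkerπ : ∀ x : An.top X, LinearMap.ker (stMap (R := An.hol X) π x) = S x := ker_stMap_quotπ hop
  have hkerρ : ∀ x : An.top X, LinearMap.ker (stMap (R := An.hol X) ρ x) =
      LinearMap.range (stMap (R := An.hol X) φ x) := fun x => ker_stMap_cokernel φ x
  have hSub : ∀ x : An.top X, LinearMap.range (stMap (R := An.hol X) (subι (R := An.hol X) (N := N) S) x) = S x :=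
    range_stMap_subι hop
  obtain ⟨ν, hν⟩ := exists_desc (R := An.hol X) (N := N) S (P := C) (θ ≫ ρ) (fun x t ht => by
    rw [← hSub] at ht
    obtain ⟨t, rfl⟩ := ht
    rw [LinearMap.mem_ker, ← stMap_comp_apply, ← Category.assoc]
    have h0 : (subι (R := An.hol X) (N := N) S ≫ θ) ≫ ρ = 0 := Limits.cokernel.condition φ
    rw [h0, stMap_zero, LinearMap.zero_apply])
  -- the two quotients are supported in `V(J)`
  have hN' : Alg N' := by
    refine ih N' (H980.PowFam.quot_isFinitePresentation J n N hN) fun x hx => ?_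
    refine ⟨fun s t => ?_⟩
    obtain ⟨s, rfl⟩ := stMap_quotπ_surjective (R := An.hol X) (N := N) S x s
    obtain ⟨t, rfl⟩ := stMap_quotπ_surjective (R := An.hol X) (N := N) S x t
    have hall : ∀ u : St (R := An.hol X) N x, stMap (R := An.hol X) π x u = 0 := fun u => by
      rw [← LinearMap.mem_ker, hkerπ]
      change u ∈ powFam J n N x
      rw [powFam_eq_top J n N x hx]
      trivial
    exact (hall s).trans (hall t).symm
  have hC : Alg C := by
    refine ih C (isFinitePresentation_cokernel (R := An.hol X) φ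
      (H980.PowFam.sub_isFiniteType J n N hNft) hPfp) fun x hx => ?_
    refine ⟨fun s t => ?_⟩
    obtain ⟨s, rfl⟩ := stMap_cokernel_surjective (R := An.hol X) φ x s
    obtain ⟨t, rfl⟩ := stMap_cokernel_surjective (R := An.hol X) φ x t
    have hall : ∀ u : St (R := An.hol X) P x, stMap (R := An.hol X) ρ x u = 0 := fun u => by
      rw [← LinearMap.mem_ker, hkerρ]
      obtain ⟨v, rfl⟩ := (hθ x hx).2 u
      have hv : v ∈ S x := by
        change v ∈ powFam J n N x
        rw [powFam_eq_top J n N x hx]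
        trivial
      rw [← hSub] at hv
      obtain ⟨v, rfl⟩ := hv
      exact ⟨v, stMap_comp_apply _ _ _ _⟩
    exact (hall s).trans (hall t).symm
  have hpull := H146.AlgPullback.alg_pullback h4309 hN' hP hC ν ρ
  have hiso : IsIso (Limits.pullback.lift π θ hν) := by
    refine isIso_lift (R := An.hol X) π θ ν ρ hν (stMap_quotπ_surjective (R := An.hol X) (N := N) S)
      (fun x t h1 h2 => hn x t ?_ h2) fun x b hb => ?_
    · rw [← LinearMap.mem_ker, hkerπ] at h1
      exact h1
    · rw [← LinearMap.mem_ker, hkerρ] at hb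
      obtain ⟨j, rfl⟩ := hb
      refine ⟨stMap (R := An.hol X) (subι (R := An.hol X) (N := N) S) x j, ?_, ?_⟩
      · rw [← LinearMap.mem_ker, hkerπ, ← hSub]
        exact ⟨j, rfl⟩
      · exact (stMap_comp_apply _ _ _ _).symm
  exact alg_of_iso (asIso (Limits.pullback.lift π θ hν)).symm hpull

end Groth.Agent.Gaga.H298.FinStep
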